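import Mathlib

/-! Inverse systems of abelian groups: Mittag-Leffler and lifting of compatible families. -/

set_option autoImplicit false

universe u v

open CategoryTheory Opposite Limits

namespace Groth.Agent.InvLimLib

variable {ι : Type v} [Preorder ι] {A B C : ιᵒᵖ ⥤ AddCommGrpCat.{u}}

/-- Transition map. -/
abbrev tr (F : ιᵒᵖ ⥤ AddCommGrpCat.{u}) {i j : ι} (h : i ≤ j) : F.obj (op j) →+ F.obj (op i) :=
  (F.map (homOfLE h).op).hom

theorem tr_tr (F : ιᵒᵖ ⥤ AddCommGrpCat.{u}) {i j k : ι} (h : i ≤ j) (h' : j ≤ k) (x : F.obj (op k)) :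
    tr F h (tr F h' x) = tr F (h.trans h') x := by
  show ((F.map (homOfLE h').op) ≫ (F.map (homOfLE h).op)).hom x = _
  rw [← F.map_comp]
  rfl

theorem tr_self (F : ιᵒᵖ ⥤ AddCommGrpCat.{u}) {i : ι} (x : F.obj (op i)) : tr F (le_refl i) x = x := by
  show (F.map (homOfLE (le_refl i)).op).hom x = x
  rw [show (homOfLE (le_refl i)).op = 𝟙 (op i) from Subsingleton.elim _ _, F.map_id]
  rfl

theorem tr_nat (u : A ⟶ B) {i j : ι} (h : i ≤ j) (x : A.obj (op j)) :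
    (u.app (op i)).hom (tr A h x) = tr B h ((u.app (op j)).hom x) := by
  show (A.map (homOfLE h).op ≫ u.app (op i)).hom x = _
  rw [u.naturality]
  rfl

theorem ml_iff (F : ιᵒᵖ ⥤ AddCommGrpCat.{u}) :
    (F ⋙ forget AddCommGrpCat.{u}).IsMittagLeffler ↔
      ∀ i : ι, ∃ (j : ι) (h : i ≤ j), ∀ (k : ι) (hk : i ≤ k), ∀ x, ∃ y, tr F hk y = tr F h x := by
  constructor
  · intro hF i
    obtain ⟨⟨j⟩, f, hf⟩ := hF (op i)
    refine ⟨j, leOfHom f.unop, fun k hk x => ?_⟩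
    obtain ⟨y, hy⟩ := hf (homOfLE hk).op ⟨x, rfl⟩
    exact ⟨y, hy⟩
  · rintro hF ⟨i⟩
    obtain ⟨j, h, hj⟩ := hF i
    refine ⟨op j, (homOfLE h).op, ?_⟩
    rintro ⟨k⟩ g _ ⟨x, rfl⟩
    obtain ⟨y, hy⟩ := hj k (leOfHom g.unop) x
    exact ⟨y, hy⟩

/-- A compatible family. -/
def Compat (F : ιᵒᵖ ⥤ AddCommGrpCat.{u}) (x : ∀ i : ι, F.obj (op i)) : Prop :=
  ∀ ⦃i j : ι⦄ (h : i ≤ j), tr F h (x j) = x i

theorem compat_of_limit (F : ιᵒᵖ ⥤ AddCommGrpCat.{u}) [HasLimit F] (y : ↑(limit F)) :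
    Compat F fun i => (limit.π F (op i)).hom y := fun i j h => by
  show (limit.π F (op j) ≫ F.map (homOfLE h).op).hom y = _
  rw [limit.w]

theorem exists_limit (F : ιᵒᵖ ⥤ AddCommGrpCat.{u}) [HasLimit F] [PreservesLimit F (forget AddCommGrpCat.{u})]
    {x : ∀ i : ι, F.obj (op i)} (hx : Compat F x) :
    ∃ y : ↑(limit F), ∀ i, (limit.π F (op i)).hom y = x i := by
  obtain ⟨y, hy, -⟩ := (Types.isLimit_iff _).1 ⟨isLimitOfPreserves (forget AddCommGrpCat.{u}) (limit.isLimit F)⟩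
    (fun i => x i.unop) (fun {i j} f => hx (leOfHom f.unop))
  exact ⟨y, fun i => hy (op i)⟩

theorem exists_compat_of_cofinal (F : ιᵒᵖ ⥤ AddCommGrpCat.{u}) (a : ℕ → ι) (ha : ∀ n, a n ≤ a (n + 1))
    (hc : ∀ i, ∃ n, i ≤ a n) (x : ∀ n, F.obj (op (a n))) (hx : ∀ n, tr F (ha n) (x (n + 1)) = x n) :
    ∃ y, Compat F y ∧ ∀ n, y (a n) = x n := by
  have hm : Monotone a := monotone_nat_of_le_succ ha
  have hxx : ∀ {n m : ℕ} (h : n ≤ m), tr F (hm h) (x m) = x n := fun {n m} h => by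
    induction m, h using Nat.le_induction with
    | base => exact tr_self F _
    | succ m h ih =>
      rw [← ih, ← hx m, tr_tr]
  choose N hN using hc
  have key : ∀ {i : ι} {n : ℕ} (h : i ≤ a n), tr F h (x n) = tr F (hN i) (x (N i)) := fun {i n} h => by
    rw [← hxx (le_max_left n (N i)), ← hxx (le_max_right n (N i)), tr_tr, tr_tr]
  refine ⟨fun i => tr F (hN i) (x (N i)), fun i j h => ?_, fun n => ?_⟩
  · show tr F h (tr F (hN j) (x (N j))) = _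
    rw [tr_tr]
    exact key _
  · show tr F (hN (a n)) (x (N (a n))) = _
    rw [← key (le_refl (a n)), tr_self]

/-- Dependent choice along `ℕ`. -/
theorem exists_seq {X : ℕ → Type*} (R : ∀ n, X n → X (n + 1) → Prop) (P : ∀ n, X n → Prop) (x0 : X 0) (h0 : P 0 x0)
    (step : ∀ n x, P n x → ∃ y, P (n + 1) y ∧ R n x y) :
    ∃ x : ∀ n, X n, x 0 = x0 ∧ (∀ n, P n (x n)) ∧ ∀ n, R n (x n) (x (n + 1)) := by
  let s : ∀ n, {x : X n // P n x} := fun n =>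
    Nat.rec ⟨x0, h0⟩ (fun n p => ⟨(step n p.1 p.2).choose, (step n p.1 p.2).choose_spec.1⟩) n
  exact ⟨fun n => (s n).1, rfl, fun n => (s n).2, fun n => (step n (s n).1 (s n).2).choose_spec.2⟩

theorem exists_cofinal_seq [Nonempty ι] [IsDirected ι (· ≤ ·)]
    (hcof : ∃ s : Set ι, s.Countable ∧ ∀ i, ∃ j ∈ s, i ≤ j) (J : ι → ι) :
    ∃ a : ℕ → ι, (∀ n, a n ≤ a (n + 1)) ∧ (∀ n, J (a n) ≤ a (n + 1)) ∧ ∀ i, ∃ n, i ≤ a n := by
  obtain ⟨s, hs, hsc⟩ := hcof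
  obtain ⟨j0, hj0, -⟩ := hsc (Classical.arbitrary ι)
  obtain ⟨f, rfl⟩ := hs.exists_eq_range ⟨j0, hj0⟩
  obtain ⟨a, -, ha, hR⟩ := exists_seq (X := fun _ => ι) (fun _ x y => x ≤ y ∧ J x ≤ y) (fun n x => f n ≤ x) (f 0) le_rfl
    fun n x _ => by
      obtain ⟨y, h1, h2⟩ := exists_ge_ge x (J x)
      obtain ⟨z, h3, h4⟩ := exists_ge_ge y (f (n + 1))
      exact ⟨z, h4, h1.trans h3, h2.trans h3⟩
  refine ⟨a, fun n => (hR n).1, fun n => (hR n).2, fun i => ?_⟩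
  obtain ⟨_, ⟨n, rfl⟩, h⟩ := hsc i
  exact ⟨n, h.trans (ha n)⟩

/-- Compatible families lift through a map with Mittag-Leffler kernel (no injectivity needed). -/
theorem exists_lift [Nonempty ι] [IsDirected ι (· ≤ ·)] (hcof : ∃ s : Set ι, s.Countable ∧ ∀ i, ∃ j ∈ s, i ≤ j)
    (u : A ⟶ B) (v : B ⟶ C) (hex : ∀ i, (v.app i).hom.ker = (u.app i).hom.range)
    (hA : (A ⋙ forget AddCommGrpCat.{u}).IsMittagLeffler) (z : ∀ i : ι, C.obj (op i)) (hz : Compat C z)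
    (hmem : ∀ i, ∃ b, (v.app (op i)).hom b = z i) :
    ∃ y, Compat B y ∧ ∀ i, (v.app (op i)).hom (y i) = z i := by
  choose J hJ hJ' using (ml_iff A).1 hA
  obtain ⟨a, ha, haJ, hac⟩ := exists_cofinal_seq hcof J
  choose b hb using fun n => hmem (a n)
  let g : ∀ n, B.obj (op (a n)) := fun n => tr B (ha n) (b (n + 1))
  have hg : ∀ n, (v.app (op (a n))).hom (g n) = z (a n) := fun n => by
    rw [tr_nat v, hb, hz]
  obtain ⟨c, -, hc, hR⟩ := exists_seq (X := fun n => A.obj (op (a n)))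
    (fun n c c' => tr B (ha n) (g (n + 1) + (u.app (op (a (n + 1)))).hom c') = g n + (u.app (op (a n))).hom c)
    (fun n c => ∃ e, tr A (ha n) e = c) 0 ⟨0, map_zero _⟩ fun n c hc => by
      obtain ⟨e, rfl⟩ := hc
      have hd : tr B (ha (n + 1)) (b (n + 2)) - b (n + 1) ∈ (u.app (op (a (n + 1)))).hom.range := by
        rw [← hex, AddMonoidHom.mem_ker, map_sub, tr_nat v, hb, hb, hz, sub_self]
      obtain ⟨d, hd⟩ := hd
      obtain ⟨e', he'⟩ := hJ' (a n) (a (n + 2)) ((ha n).trans (ha (n + 1))) (tr A (haJ n) (e - d))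
      refine ⟨tr A (ha (n + 1)) e', ⟨e', rfl⟩, ?_⟩
      have h1 : tr A (ha n) (tr A (ha (n + 1)) e') = tr A (ha n) (e - d) := by
        rw [tr_tr, he', tr_tr]
      rw [map_add, ← tr_nat u, h1, map_sub, map_sub, tr_nat u (ha n) d, hd]
      show tr B (ha n) (tr B (ha (n + 1)) (b (n + 2))) + _ = tr B (ha n) (b (n + 1)) + _
      rw [map_sub]
      abel
  obtain ⟨y, hy, hya⟩ := exists_compat_of_cofinal B a ha hac
    (fun n => g n + (u.app (op (a n))).hom (c n)) hR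
  refine ⟨y, hy, fun i => ?_⟩
  obtain ⟨n, hn⟩ := hac i
  have h0 : (v.app (op (a n))).hom ((u.app (op (a n))).hom (c n)) = 0 :=
    AddMonoidHom.mem_ker.1 (by rw [hex]; exact ⟨_, rfl⟩)
  rw [← hy hn, hya, tr_nat v, map_add, hg, h0, add_zero, hz]

theorem exists_compat_of_step (F : ℕᵒᵖ ⥤ AddCommGrpCat.{u}) (j₀ : ℕ) (P : ∀ n, F.obj (op (j₀ + n)) → Prop)
    (x : F.obj (op j₀)) (hx : P 0 x)
    (step : ∀ n y, P n y → ∃ y', P (n + 1) y' ∧ tr F (Nat.le_succ (j₀ + n)) y' = y) :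
    ∃ y, Compat F y ∧ y j₀ = x := by
  obtain ⟨s, h0, -, hs⟩ := exists_seq (X := fun n => F.obj (op (j₀ + n)))
    (fun n y y' => tr F (Nat.le_succ (j₀ + n)) y' = y) P x hx step
  obtain ⟨y, hy, hya⟩ := exists_compat_of_cofinal F (fun n => j₀ + n) (fun n => Nat.le_succ _)
    (fun i => ⟨i, Nat.le_add_left _ _⟩) s hs
  exact ⟨y, hy, (hya 0).trans h0⟩

end Groth.Agent.InvLimLib
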